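import Groth.Agent.VarDim1.KrullAkizuki
import Groth.Agent.LimTop61.BirationalZMT
import Mathlib.AlgebraicGeometry.ZariskisMainTheorem

/-! Where a morphism with trivial normalization is an isomorphism, and quasi-finiteness of birational
morphisms over points of codimension at most one. -/

set_option autoImplicit false
set_option maxSynthPendingDepth 6
set_option linter.style.haveILetI false
set_option backward.isDefEq.respectTransparency false
set_option backward.defeqAttrib.useBackward true

universe u

noncomputable section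

open CategoryTheory CategoryTheory.Limits AlgebraicGeometry TopologicalSpace

namespace Groth.Agent.Coh71

section Alg

variable {A B K : Type u} [CommRing A] [IsDomain A] [IsNoetherianRing A] [Ring.KrullDimLE 1 A]
  [CommRing B] [Field K] [Algebra A K] [IsFractionRing A K] [Algebra A B]

open TensorProduct in
/-- Rings between a one-dimensional Noetherian domain and its fraction field are quasi-finite over it. -/
theorem quasiFinite_of_injective_fractionRing (φ : B →ₐ[A] K) (hφ : Function.Injective φ) :
    Algebra.QuasiFinite A B := by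
  refine ⟨fun P _ => ?_⟩
  have hgen : ∀ (b : B) (r : P.ResidueField), r ⊗ₜ[A] b = r • ((1 : P.ResidueField) ⊗ₜ[A] b) :=
    fun b r => by rw [TensorProduct.smul_tmul', smul_eq_mul, mul_one]
  by_cases hP : P = ⊥
  · refine Module.Finite.of_surjective
      (LinearMap.toSpanSingleton P.ResidueField (P.Fiber B) 1) fun z => ?_
    induction z using TensorProduct.induction_on with
    | zero => exact ⟨0, map_zero _⟩
    | add x y hx hy =>
      obtain ⟨r, rfl⟩ := hx
      obtain ⟨r', rfl⟩ := hy
      exact ⟨r + r', map_add _ _ _⟩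
    | tmul r b =>
      obtain ⟨c, a, hca⟩ := IsLocalization.exists_mk'_eq (nonZeroDivisors A) (φ b)
      have ha : (a : A) ∉ P := by
        subst hP
        simp
      have hab : (a : A) • b = c • (1 : B) := hφ (by
        rw [map_smul, map_smul, map_one, Algebra.smul_def, Algebra.smul_def, mul_one, ← hca,
          IsLocalization.mk'_spec'])
      have ha' : algebraMap A P.ResidueField a ≠ 0 := fun h =>
        ha (Ideal.algebraMap_residueField_eq_zero.1 h)
      refine ⟨r * (algebraMap A P.ResidueField a)⁻¹ * algebraMap A P.ResidueField c, ?_⟩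
      rw [LinearMap.toSpanSingleton_apply, Algebra.TensorProduct.one_def, TensorProduct.smul_tmul',
        smul_eq_mul, mul_one]
      calc (r * (algebraMap A P.ResidueField a)⁻¹ * algebraMap A P.ResidueField c) ⊗ₜ[A] (1 : B)
          = (r * (algebraMap A P.ResidueField a)⁻¹) ⊗ₜ[A] (c • (1 : B)) := by
            rw [← TensorProduct.smul_tmul, Algebra.smul_def, mul_comm]
        _ = (r * (algebraMap A P.ResidueField a)⁻¹) ⊗ₜ[A] ((a : A) • b) := by rw [hab]
        _ = r ⊗ₜ[A] b := by
            rw [← TensorProduct.smul_tmul, Algebra.smul_def, mul_comm (algebraMap A _ _),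
              mul_assoc, inv_mul_cancel₀ ha', mul_one]
  · have hinj : Function.Injective (algebraMap A K) := IsFractionRing.injective A K
    have : Ring.DimensionLEOne A := ⟨fun {p} hp hp' => (Ring.krullDimLE_one_iff_of_noZeroDivisors.1 ‹_›) p hp hp'⟩
    have hmax : P.IsMaximal := Ideal.IsPrime.isMaximal ‹_› hP
    have : Module.Finite A (B ⧸ P.map (algebraMap A B)) := by
      obtain ⟨a, haP, ha⟩ := Submodule.exists_mem_ne_zero_of_ne_bot hP
      let e : B ≃ₐ[A] φ.range := AlgEquiv.ofInjective φ hφ
      let I : Ideal φ.range := P.map (algebraMap A φ.range)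
      have hI : I ≠ ⊥ := fun h => by
        have h2 : algebraMap A φ.range a ∈ I := Ideal.mem_map_of_mem _ haP
        rw [h, Ideal.mem_bot] at h2
        exact ha (hinj (by rw [map_zero]; exact congrArg Subtype.val h2))
      have h3 := VarDim1.finite_quotient (A := A) (L := K) K φ.range hI
      let q : (φ.range ⧸ I) →ₐ[A] (B ⧸ P.map (algebraMap A B)) :=
        Ideal.quotientMapₐ _ e.symm.toAlgHom (by
          refine Ideal.map_le_iff_le_comap.2 fun x hx => ?_
          show e.symm (algebraMap A φ.range x) ∈ P.map (algebraMap A B)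
          rw [AlgEquiv.commutes]
          exact Ideal.mem_map_of_mem _ hx)
      refine Module.Finite.of_surjective q.toLinearMap fun z => ?_
      obtain ⟨b, rfl⟩ := Ideal.Quotient.mk_surjective z
      exact ⟨Ideal.Quotient.mk _ (e b), congrArg (Ideal.Quotient.mk _) (e.symm_apply_apply b)⟩
    let ι : B →ₐ[A] P.Fiber B := Algebra.TensorProduct.includeRight
    let ψ : (B ⧸ P.map (algebraMap A B)) →ₐ[A] P.Fiber B := Ideal.Quotient.liftₐ _ ι (by
      intro x hx
      have : P.map (algebraMap A B) ≤ RingHom.ker ι.toRingHom := by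
        refine Ideal.map_le_iff_le_comap.2 fun y hy => ?_
        show ι (algebraMap A B y) = 0
        rw [AlgHom.commutes, Algebra.TensorProduct.algebraMap_apply,
          Ideal.algebraMap_residueField_eq_zero.2 hy, TensorProduct.zero_tmul]
      exact this hx)
    have : Module.Finite A (P.Fiber B) := Module.Finite.of_surjective ψ.toLinearMap fun z => by
      induction z using TensorProduct.induction_on with
      | zero => exact ⟨0, map_zero _⟩
      | add x y hx hy =>
        obtain ⟨r, rfl⟩ := hx
        obtain ⟨r', rfl⟩ := hy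
        exact ⟨r + r', map_add _ _ _⟩
      | tmul r b =>
        obtain ⟨c, hc⟩ := (Ideal.bijective_algebraMap_quotient_residueField P).2 r
        obtain ⟨c, rfl⟩ := Ideal.Quotient.mk_surjective c
        refine ⟨Ideal.Quotient.mk _ (c • b), ?_⟩
        show ι (c • b) = r ⊗ₜ[A] b
        rw [map_smul, ← hc]
        show c • ((1 : P.ResidueField) ⊗ₜ[A] b) = _
        rw [TensorProduct.smul_tmul', Algebra.smul_def, mul_one]
        rfl
    exact Module.Finite.of_restrictScalars_finite A _ _

end Alg

section Sch

variable {X Y : Scheme.{u}} (f : X ⟶ Y)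

/-- If the sections of the base are all the sections upstairs, the relative normalization is trivial. -/
theorem isIso_fromNormalization_of_app_bijective [QuasiCompact f] [QuasiSeparated f]
    (hO : ∀ U : Y.Opens, Function.Bijective (f.app U)) : IsIso f.fromNormalization := by
  refine (IsZariskiLocalAtTarget.iff_of_iSup_eq_top (P := MorphismProperty.isomorphisms Scheme)
    (fun V : Y.affineOpens => V.1) (iSup_affineOpens_eq_top Y)).mpr ?_
  rintro ⟨V, hV⟩
  change IsIso (f.fromNormalization ∣_ V)
  refine (isIso_morphismRestrict_iff_isIso_app _ hV).mpr ?_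
  rw [f.fromNormalization_app hV]
  let := (f.app V).hom.toAlgebra
  have : IsIso (CommRingCat.ofHom (algebraMap Γ(Y, V) (integralClosure Γ(Y, V) Γ(X, f ⁻¹ᵁ V)))) := by
    rw [ConcreteCategory.isIso_iff_bijective]
    exact ⟨fun a a' h => (hO V).1 (congrArg Subtype.val h), fun b => by
      obtain ⟨a, ha⟩ := (hO V).2 b.1
      exact ⟨a, Subtype.ext ha⟩⟩
  infer_instance

/-- A morphism with trivial normalization is an isomorphism over the image of its quasi-finite locus. -/
theorem exists_open_isIso_of_isIso_fromNormalization [IsSeparated f] [LocallyOfFiniteType f] [QuasiCompact f]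
    [IsIso f.fromNormalization] :
    ∃ V : Y.Opens, IsIso (f ∣_ V) ∧ (∀ y : Y, y ∉ V → ∀ x, f x = y → ¬ f.QuasiFiniteAt x) ∧
      ∀ y : Y, y ∉ V → ∀ x : ↥(f.fiber y), ¬ IsOpen ({x} : Set ↥(f.fiber y)) := by
  obtain ⟨U, hU, hUeq⟩ := f.exists_isIso_morphismRestrict_toNormalization
  let V : Y.Opens := inv f.fromNormalization ⁻¹ᵁ U
  have hV : f.fromNormalization ⁻¹ᵁ V = U := by
    show f.fromNormalization ⁻¹ᵁ inv f.fromNormalization ⁻¹ᵁ U = U
    rw [← Scheme.Hom.comp_preimage, IsIso.hom_inv_id]
    rfl
  have hiso : IsIso (f ∣_ V) := by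
    have h1 : IsIso (f.toNormalization ∣_ (f.fromNormalization ⁻¹ᵁ V)) := hV.symm ▸ hU
    have h2 : IsIso (f.fromNormalization ∣_ V) := inferInstance
    have h3 : IsIso ((f.toNormalization ≫ f.fromNormalization) ∣_ V) := by
      rw [morphismRestrict_comp]
      infer_instance
    rwa [f.toNormalization_fromNormalization] at h3
  have hq : ∀ x : X, f.QuasiFiniteAt x → f x ∈ V := by
    intro x hx
    have hx' : f.toNormalization x ∈ U := hUeq.symm.le hx
    rw [← f.toNormalization_fromNormalization, Scheme.Hom.comp_apply]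
    show f.toNormalization x ∈ f.fromNormalization ⁻¹ᵁ V
    rwa [hV]
  refine ⟨V, hiso, fun y hy x hxy hqf => hy (hxy ▸ hq x hqf), fun y hy x hx => ?_⟩
  obtain ⟨x', rfl⟩ : ∃ x', f x' = y := ⟨((f.fiberHomeo y) x).1, ((f.fiberHomeo y) x).2⟩
  obtain ⟨z, hz⟩ : ∃ z, z = ((f.fiberHomeo (f x')) x).1 := ⟨_, rfl⟩
  have hzy : f z = f x' := hz ▸ ((f.fiberHomeo (f x')) x).2
  refine hy (hzy ▸ hq z (Scheme.Hom.quasiFiniteAt_iff_isOpen_singleton_asFiber.2 ?_))
  have key : ∀ (y : Y) (w : ↥(f.fiber y)), IsOpen ({w} : Set ↥(f.fiber y)) → ((f.fiberHomeo y) w).1 = z →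
      f z = y → IsOpen ({f.asFiber z} : Set ↥(f.fiber (f z))) := by
    rintro y w hw hwz rfl
    have : f.asFiber z = w := (f.fiberHomeo (f z)).injective (Subtype.ext (by
      rw [hwz, Scheme.Hom.asFiber, Homeomorph.apply_symm_apply]))
    rwa [this]
  exact key _ x hx hz.symm hzy

/-- A birational morphism is quasi-finite at points over points of codimension at most one. -/
theorem quasiFiniteAt_of_birational [IsIntegral X] [IsIntegral Y] [IsLocallyNoetherian Y]
    (hξ : f (genericPoint X) = genericPoint Y) (hbir : IsIso (f.stalkMap (genericPoint X))) (x : X)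
    (hx : ringKrullDim (Y.presheaf.stalk (f x)) ≤ 1) : f.QuasiFiniteAt x := by
  have : Ring.KrullDimLE 1 (Y.presheaf.stalk (f x)) := Ring.krullDimLE_iff.2 hx
  let s : genericPoint X ⤳ x := (genericPoint_spec X).specializes trivial
  let e : (X.presheaf.stalk (genericPoint X)) ⟶ Y.functionField :=
    inv (f.stalkMap (genericPoint X)) ≫ (Y.presheaf.stalkCongr (.of_eq hξ)).hom
  let φ : X.presheaf.stalk x ⟶ Y.functionField := X.presheaf.stalkSpecializes s ≫ e
  have hcomp : f.stalkMap x ≫ φ =
      Y.presheaf.stalkSpecializes ((genericPoint_spec Y).specializes trivial) := by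
    simp only [φ, e]
    rw [← Scheme.Hom.stalkSpecializes_stalkMap_assoc, IsIso.hom_inv_id_assoc,
      TopCat.Presheaf.stalkCongr_hom, TopCat.Presheaf.stalkSpecializes_comp]
  let : Algebra (Y.presheaf.stalk (f x)) (X.presheaf.stalk x) := (f.stalkMap x).hom.toAlgebra
  let ψ : X.presheaf.stalk x →ₐ[Y.presheaf.stalk (f x)] Y.functionField :=
    { φ.hom with
      commutes' := fun a => ConcreteCategory.congr_hom hcomp a }
  have hψ : Function.Injective ψ := by
    show Function.Injective φ
    have he : Function.Injective e := (ConcreteCategory.bijective_of_isIso e).1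
    exact he.comp (IsFractionRing.injective (X.presheaf.stalk x) X.functionField)
  exact quasiFinite_of_injective_fractionRing ψ hψ

/-- A proper birational morphism with trivial normalization is an isomorphism off codimension two. -/
theorem exists_open_isIso_codim_two [IsProper f] [IsIntegral X] [IsIntegral Y] [IsLocallyNoetherian Y]
    [IsIso f.fromNormalization]
    (hξ : f (genericPoint X) = genericPoint Y) (hbir : IsIso (f.stalkMap (genericPoint X))) :
    ∃ V : Y.Opens, IsIso (f ∣_ V) ∧
      (∀ y : Y, y ∉ (V : Set Y) → ∀ x : ↥(f.fiber y), ¬ IsOpen ({x} : Set ↥(f.fiber y))) ∧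
      ∀ y : Y, y ∉ (V : Set Y) → 2 ≤ ringKrullDim (Y.presheaf.stalk y) := by
  obtain ⟨V, hV, h1, h2⟩ := exists_open_isIso_of_isIso_fromNormalization f
  refine ⟨V, hV, h2, fun y hy => ?_⟩
  obtain ⟨x, rfl⟩ : y ∈ Set.range f := by
    have hc : IsClosed (Set.range f) := f.isClosedMap.isClosed_range
    have hs : closure ({genericPoint Y} : Set Y) ⊆ Set.range f :=
      hc.closure_subset_iff.2 (Set.singleton_subset_iff.2 ⟨genericPoint X, hξ⟩)
    refine hs ?_
    rw [(genericPoint_spec Y).def]
    trivial
  by_contra hlt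
  refine h1 _ hy x rfl (quasiFiniteAt_of_birational f hξ hbir x ?_)
  have hlt' := not_le.1 hlt
  clear hy
  revert hlt'
  cases ringKrullDim (Y.presheaf.stalk (f x)) with
  | bot => exact fun _ => bot_le
  | coe n =>
    intro hn
    have hn' : n < (2 : ℕ∞) := WithBot.coe_lt_coe.1 hn
    refine WithBot.coe_le_coe.2 ?_
    show n ≤ (1 : ℕ∞)
    rw [← ENat.lt_add_one_iff (by simp)]
    simpa [one_add_one_eq_two] using hn'

end Sch

end Groth.Agent.Coh71
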